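import Cfsg.Agent.Lib.LyOut.Checks
import Cfsg.Agent.Lib.LyOut.Proj

/-!
# The centraliser of the involution t in the presented Lyons group

With the bound on its order it is the group of the nine lifts. All its involutions other than t
are conjugate to s, and s is conjugate to t.
-/

set_option autoImplicit false
set_option maxRecDepth 100000

namespace CfsgLib.LyOut

open CfsgLib.LyGTwo CfsgLib.LyInvol CfsgLib.Presentations Cfsg.Spor Equiv

attribute [local irreducible] chk

/-- The lifts, indexed as Carmichael generators. -/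
def yL (i : Carmichael.Idx (0 : Fin 11) 1) : Cfsg.Spor.Ly :=
  vElt ⟨i.1.val - 2, by have := i.1.isLt; omega⟩

/-- The group of the lifts. -/
def Dt : Subgroup Cfsg.Spor.Ly := Subgroup.closure (Set.range yL)

/-- The index of a lifted letter. -/
def idxL (g : ℕ) : Carmichael.Idx (0 : Fin 11) 1 :=
  ⟨⟨(g - 10) % 9 + 2, by omega⟩, by
    constructor <;> intro h <;> simpa using congrArg Fin.val h⟩

theorem yL_idxL {g : ℕ} (hg : 10 ≤ g) : yL (idxL g) = el g := by
  rw [el, if_neg (by omega), yL]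
  exact congrArg vElt (Fin.ext (by simp [idxL]))

/-- The word uses lifts only. -/
def liftW (w : List ℕ) : Bool := w.all fun g => Nat.ble 10 g && Nat.blt g 19

theorem evW_mem : ∀ {w : List ℕ}, liftW w = true → evW w ∈ Dt
  | [], _ => by rw [evW_nil]; exact one_mem _
  | g :: w, h => by
    simp only [liftW, List.all_cons, Bool.and_eq_true, Nat.ble_eq, Nat.blt_eq] at h
    rw [evW_cons, ← yL_idxL h.1.1]
    exact mul_mem (Subgroup.subset_closure ⟨_, rfl⟩) (evW_mem (by simpa [liftW, Nat.ble_eq, Nat.blt_eq] using h.2))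

/-- The three-cycle of a lifted letter. -/
def cycP (g : ℕ) : Perm (Fin 11) := Carmichael.cyc 0 1 (idxL g).1

/-- The permutation of a word in lifts. -/
def permW (w : List ℕ) : Perm (Fin 11) := (w.map cycP).prod

/-- A table as a map. -/
def tabF (l : List ℕ) (i : Fin 11) : Fin 11 := Fin.ofNat 11 (l.getD i.val 0)

theorem perm_vS : ∀ i, permW vS i = tabF pS i := by decide +kernel

theorem card_dt [IsSimpleGroup Cfsg.Spor.Ly] : Nat.card Dt = 39916800 := by
  have h := (lifts_nonsplit (n := 11) (by norm_num) 0 1 (by decide) lifts).1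
  show Nat.card (Subgroup.closure (Set.range yL)) = _
  rw [show (39916800 : ℕ) = Nat.factorial 11 from rfl]
  exact h

theorem t_mem [IsSimpleGroup Cfsg.Spor.Ly] : tElt ∈ Dt :=
  (lifts_nonsplit (n := 11) (by norm_num) 0 1 (by decide) lifts).2.1

theorem dt_comm [IsSimpleGroup Cfsg.Spor.Ly] {x : Cfsg.Spor.Ly} (hx : x ∈ Dt) :
    tElt * x = x * tElt := by
  have h : Dt ≤ Subgroup.centralizer {tElt} := by
    refine (Subgroup.closure_le _).2 ?_
    rintro _ ⟨i, rfl⟩
    exact Subgroup.mem_centralizer_singleton_iff.2 (vElt_comm _).symm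
  exact (Subgroup.mem_centralizer_singleton_iff.1 (h hx)).symm

theorem cent_eq [IsSimpleGroup Cfsg.Spor.Ly] [Finite Cfsg.Spor.Ly]
    (hC : Nat.card (Subgroup.centralizer ({tElt} : Set Cfsg.Spor.Ly)) ≤ 39916800) :
    Subgroup.centralizer ({tElt} : Set Cfsg.Spor.Ly) = Dt := by
  refine (Subgroup.eq_of_le_of_card_ge (fun x hx => ?_) (hC.trans_eq card_dt.symm)).symm
  exact Subgroup.mem_centralizer_singleton_iff.2 (dt_comm hx).symm

variable [IsSimpleGroup Cfsg.Spor.Ly]

/-- The projection to the alternating group of degree eleven. -/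
noncomputable def pr : Dt →* Perm (Fin 11) :=
  (exists_proj (n := 11) (by norm_num) (show (0 : Fin 11) ≠ 1 by decide) lifts).choose

theorem pr_gen (i : Carmichael.Idx (0 : Fin 11) 1) :
    pr ⟨yL i, Subgroup.subset_closure ⟨i, rfl⟩⟩ = Carmichael.cyc 0 1 i.1 :=
  (exists_proj (n := 11) (by norm_num) (show (0 : Fin 11) ≠ 1 by decide) lifts).choose_spec.1 i

theorem pr_ker (x : Dt) : pr x = 1 ↔ (x : Cfsg.Spor.Ly) = 1 ∨ (x : Cfsg.Spor.Ly) = tElt :=
  (exists_proj (n := 11) (by norm_num) (show (0 : Fin 11) ≠ 1 by decide) lifts).choose_spec.2.1 x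

theorem pr_range : (pr : Dt →* Perm (Fin 11)).range = alternatingGroup (Fin 11) :=
  (exists_proj (n := 11) (by norm_num) (show (0 : Fin 11) ≠ 1 by decide) lifts).choose_spec.2.2

/-- A word in lifts as an element of the group of lifts. -/
noncomputable def dW (w : List ℕ) : Dt := if h : liftW w = true then ⟨evW w, evW_mem h⟩ else 1

theorem coe_dW {w : List ℕ} (h : liftW w = true) : (dW w : Cfsg.Spor.Ly) = evW w := by
  rw [dW, dif_pos h]

theorem pr_dW : ∀ {w : List ℕ}, liftW w = true → pr (dW w) = permW w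
  | [], h => by rw [show dW [] = 1 from Subtype.ext (coe_dW h), map_one]; rfl
  | g :: w, h => by
    have h' := h
    simp only [liftW, List.all_cons, Bool.and_eq_true, Nat.ble_eq, Nat.blt_eq] at h
    have hw : liftW w = true := by simpa [liftW, Nat.ble_eq, Nat.blt_eq] using h.2
    have e : dW (g :: w) = ⟨yL (idxL g), Subgroup.subset_closure ⟨_, rfl⟩⟩ * dW w := by
      refine Subtype.ext ?_
      rw [coe_dW h', Subgroup.coe_mul, coe_dW hw, evW_cons]
      show el g * evW w = yL (idxL g) * evW w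
      rw [yL_idxL h.1.1]
    rw [e, map_mul, pr_gen, pr_dW hw]
    simp [permW, cycP]

theorem t_comm (x : Dt) : tElt * (x : Cfsg.Spor.Ly) = x * tElt := dt_comm x.2

theorem dt_eq {x y : Dt} (h : pr x = pr y) {k : ℕ} (hk : Odd k) (hx : (x : Cfsg.Spor.Ly) ^ k = 1)
    (hy : (y : Cfsg.Spor.Ly) ^ k = 1) : x = y :=
  eq_of_odd_pow pr_ker tElt_sq tElt_ne t_comm h hk hx hy

omit [IsSimpleGroup Cfsg.Spor.Ly] in
theorem sign_even {n : ℕ} {σ : Perm (Fin n)} (h2 : σ * σ = 1) :
    σ.cycleType = Multiset.replicate (σ.support.card / 2) 2 := by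
  rcases eq_or_ne σ 1 with rfl | hne
  · simp
  · have ho : orderOf σ = 2 := orderOf_eq_prime (by rw [pow_two]; exact h2) hne
    obtain ⟨m, hm⟩ := Perm.cycleType_prime_order (σ := σ) (ho ▸ Nat.prime_two)
    rw [ho] at hm
    have hs := σ.sum_cycleType
    rw [hm, Multiset.sum_replicate, smul_eq_mul] at hs
    rw [hm, ← hs, Nat.mul_div_cancel _ (by norm_num : 0 < 2)]

omit [IsSimpleGroup Cfsg.Spor.Ly] in
theorem exists_even_conj {σ τ c : Perm (Fin 11)} (hσ : σ * σ = 1) (hτ : τ * τ = 1)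
    (hs : σ.support.card / 2 = τ.support.card / 2) (hc : c * τ * c⁻¹ = τ) (hodd : Perm.sign c = -1) :
    ∃ d : Perm (Fin 11), d ∈ alternatingGroup (Fin 11) ∧ d * τ * d⁻¹ = σ := by
  obtain ⟨d, hd⟩ := isConj_iff.1 (Perm.isConj_iff_cycleType_eq.2
    (show τ.cycleType = σ.cycleType by rw [sign_even hσ, sign_even hτ, hs]))
  rcases Int.units_eq_one_or (Perm.sign d) with h | h
  · exact ⟨d, h, hd⟩
  · refine ⟨d * c, ?_, ?_⟩
    · rw [Perm.mem_alternatingGroup, map_mul, h, hodd]; rfl
    · calc d * c * τ * (d * c)⁻¹ = d * (c * τ * c⁻¹) * d⁻¹ := by group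
        _ = σ := by rw [hc, hd]

theorem s_ne : evW vS ≠ tElt ∧ evW vS ≠ 1 := by
  have h : pr (dW vS) ≠ 1 := by
    intro e
    rw [pr_dW (by decide +kernel)] at e
    have := perm_vS 0
    rw [e] at this
    exact absurd this (by decide +kernel)
  have h2 := coe_dW (w := vS) (by decide +kernel)
  exact ⟨fun e => h ((pr_ker _).2 (Or.inr (h2.trans e))),
    fun e => h ((pr_ker _).2 (Or.inl (h2.trans e)))⟩

theorem s_invol : evW vS * evW vS = 1 := by rw [← evW_append, evW_eq s_sq, evW_nil]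

theorem h_conj : evW vH * evW vS * (evW vH)⁻¹ = tElt * evW vS := by
  have h : (evW vH)⁻¹ = evW vHi := inv_eq_of_mul_eq_one_right (by
    rw [← evW_append, evW_eq h_inv, evW_nil])
  rw [h, ← evW_append, ← evW_append, evW_eq h_chk, evW_append, evW_tWord]

/-- An involution of the group of lifts other than t is conjugate to s there. -/
theorem invol_class {x : Dt} (h2 : (x : Cfsg.Spor.Ly) * x = 1) (h1 : (x : Cfsg.Spor.Ly) ≠ 1)
    (ht : (x : Cfsg.Spor.Ly) ≠ tElt) :
    ∃ h : Dt, (x : Cfsg.Spor.Ly) = h * evW vS * (h : Cfsg.Spor.Ly)⁻¹ := by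
  set σ := pr x with hσ
  have hσ2 : σ * σ = 1 := by
    rw [hσ, ← map_mul, show x * x = 1 from Subtype.ext h2, map_one]
  have hσ1 : σ ≠ 1 := fun e => ((pr_ker x).1 e).elim h1 ht
  have heven : Perm.sign σ = 1 := pr_range.le (show σ ∈ pr.range from ⟨x, rfl⟩)
  have hcard : σ.support.card ≤ 11 := by
    simpa using Finset.card_le_univ σ.support
  have hsum := σ.sum_cycleType
  rw [sign_even hσ2, Multiset.sum_replicate, smul_eq_mul] at hsum
  have hpar : Even (σ.support.card / 2) := by
    rw [Perm.sign_of_cycleType, sign_even hσ2, Multiset.sum_replicate, Multiset.card_replicate,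
      smul_eq_mul, neg_one_pow_eq_one_iff_even (by decide)] at heven
    obtain ⟨k, hk⟩ := heven
    exact ⟨k - σ.support.card / 2, by omega⟩
  have hpos : σ.support.card ≠ 0 := by simpa using hσ1
  have h24 : σ.support.card / 2 = 2 ∨ σ.support.card / 2 = 4 := by
    obtain ⟨k, hk⟩ := hpar
    omega
  -- transport a representative
  have trans : ∀ w : List ℕ, liftW w = true → permW w * permW w = 1 →
      σ.support.card / 2 = (permW w).support.card / 2 →
      ∀ c : Perm (Fin 11), c * permW w * c⁻¹ = permW w → Perm.sign c = -1 →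
      ∃ h : Dt, (x : Cfsg.Spor.Ly) = h * evW w * (h : Cfsg.Spor.Ly)⁻¹ ∨
        (x : Cfsg.Spor.Ly) = h * (tElt * evW w) * (h : Cfsg.Spor.Ly)⁻¹ := by
    intro w hw hw2 hcount c hc hodd
    obtain ⟨d, hd, e⟩ := exists_even_conj hσ2 hw2 hcount hc hodd
    obtain ⟨h, hh⟩ : d ∈ pr.range := pr_range.symm ▸ hd
    refine ⟨h, ?_⟩
    have hk : pr (x * (h * dW w * h⁻¹)⁻¹) = 1 := by
      rw [map_mul, map_inv, map_mul, map_mul, map_inv, hh, pr_dW hw, e, ← hσ, mul_inv_cancel]
    rcases (pr_ker _).1 hk with e' | e'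
    · left
      simpa [coe_dW hw] using mul_inv_eq_one.1 e'
    · right
      rw [Subgroup.coe_mul, Subgroup.coe_inv, mul_inv_eq_iff_eq_mul] at e'
      rw [e']
      simp only [Subgroup.coe_mul, Subgroup.coe_inv, coe_dW hw]
      rw [← mul_assoc, ← mul_assoc, t_comm, mul_assoc (h : Cfsg.Spor.Ly) tElt]
  rcases h24 with h24 | h24
  · exfalso
    obtain ⟨h, e | e⟩ := trans vL (by decide +kernel) (by decide +kernel)
      (h24.trans (by decide +kernel)) (swap 4 5) (by decide +kernel) (Perm.sign_swap (by decide))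
    all_goals
      have e2 : evW vL * evW vL = tElt := by rw [← evW_append, evW_eq l_chk, evW_tWord]
      refine tElt_ne ?_
      rw [e] at h2
    · rw [conj_mul, e2] at h2
      rw [show tElt = (h : Cfsg.Spor.Ly)⁻¹ * (h * tElt * (h : Cfsg.Spor.Ly)⁻¹) * h by group, h2]
      group
    · rw [conj_mul, show tElt * evW vL * (tElt * evW vL) = evW vL * evW vL by
        rw [(show Commute tElt (evW vL) from dt_comm (evW_mem (by decide +kernel))).symm.mul_mul_mul_comm,
          tElt_sq, one_mul], e2] at h2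
      rw [show tElt = (h : Cfsg.Spor.Ly)⁻¹ * (h * tElt * (h : Cfsg.Spor.Ly)⁻¹) * h by group, h2]
      group
  · obtain ⟨h, e | e⟩ := trans vS (by decide +kernel) (by decide +kernel)
      (h24.trans (by decide +kernel)) (swap 1 4) (by decide +kernel) (Perm.sign_swap (by decide))
    · exact ⟨h, e⟩
    · refine ⟨h * dW vH, ?_⟩
      rw [e, Subgroup.coe_mul, coe_dW (by decide +kernel), ← h_conj]
      group

theorem g_conj : gE * tElt * gE⁻¹ = evW vS := by
  rw [← evW_invg, gE, ← evW_tWord, ← evW_append, ← evW_append, evW_eq g_chk]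

variable [Finite Cfsg.Spor.Ly]

/-- Every involution is conjugate to t. -/
theorem conj_t (hC : Nat.card (Subgroup.centralizer ({tElt} : Set Cfsg.Spor.Ly)) ≤ 39916800)
    (hG : Nat.card Cfsg.Spor.Ly = 51765179004000000) {u : Cfsg.Spor.Ly} (h2 : u * u = 1)
    (h1 : u ≠ 1) : ∃ a : Cfsg.Spor.Ly, u = a * tElt * a⁻¹ := by
  classical
  have := Fact.mk Nat.prime_two
  let P : Sylow 2 Dt := default
  set P1 := (P : Subgroup Dt).map Dt.subtype with hP1
  have hcard : Nat.card P1 = 2 ^ (Nat.card Cfsg.Spor.Ly).factorization 2 := by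
    rw [hP1, Subgroup.card_map_of_injective Dt.subtype_injective, P.card_eq_multiplicity, card_dt,
      hG]
    congr 1
    rw [show (39916800 : ℕ) = 2 ^ 8 * 155925 by norm_num,
      show (51765179004000000 : ℕ) = 2 ^ 8 * 202207730484375 by norm_num,
      Nat.factorization_mul (by norm_num) (by norm_num),
      Nat.factorization_mul (by norm_num) (by norm_num), Finsupp.add_apply, Finsupp.add_apply,
      Nat.factorization_eq_zero_of_not_dvd (show ¬ 2 ∣ 155925 by norm_num),
      Nat.factorization_eq_zero_of_not_dvd (show ¬ 2 ∣ 202207730484375 by norm_num)]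
  set Q1 := Sylow.ofCard P1 hcard
  have hu : IsPGroup 2 (Subgroup.zpowers u) := IsPGroup.of_card (n := 1) (by
    rw [Nat.card_zpowers, pow_one, orderOf_eq_prime (by rw [pow_two]; exact h2) h1])
  obtain ⟨Q, hQ⟩ := hu.exists_le_sylow
  obtain ⟨a, ha⟩ := MulAction.exists_smul_eq Cfsg.Spor.Ly Q Q1
  have hx : a * u * a⁻¹ ∈ P1 := by
    have : a * u * a⁻¹ ∈ ((a • Q : Sylow 2 Cfsg.Spor.Ly) : Subgroup Cfsg.Spor.Ly) := by
      rw [Sylow.coe_subgroup_smul]
      exact Subgroup.smul_mem_pointwise_smul u (MulAut.conj a) _ (hQ (Subgroup.mem_zpowers u))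
    rwa [ha] at this
  obtain ⟨x, -, hxe⟩ := hx
  have ex : (x : Cfsg.Spor.Ly) = a * u * a⁻¹ := hxe
  by_cases hxt : (x : Cfsg.Spor.Ly) = tElt
  · exact ⟨a⁻¹, by rw [← hxt, ex]; group⟩
  · obtain ⟨h, hh⟩ := invol_class (x := x) (by rw [ex, conj_mul, h2]; group)
      (fun e => h1 (by
        rw [ex] at e
        calc u = a⁻¹ * (a * u * a⁻¹) * a := by group
          _ = 1 := by rw [e]; group)) hxt
    refine ⟨a⁻¹ * h * gE, ?_⟩
    rw [ex, ← g_conj] at hh
    calc u = a⁻¹ * (a * u * a⁻¹) * a := by group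
      _ = _ := by rw [hh]; group

end CfsgLib.LyOut
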