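import Cfsg.Agent.Lib.LyOut.ChecksMap
import Cfsg.Agent.Lib.LyOut.Cent
import Cfsg.Prelude.Def_KGroupFacts

/-!
# Every automorphism of the presented Lyons group is inner

After inner corrections an automorphism fixes t and s and is given on the centraliser of t by a
permutation. An odd one would carry, through the conjugate by g of the common centraliser of t
and s, a permutation without fixed point to one with fixed points. An even one fixes c up to t.
-/

set_option autoImplicit false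
set_option maxRecDepth 100000

namespace CfsgLib.LyOut

open CfsgLib.LyGTwo CfsgLib.LyInvol CfsgLib.Presentations Cfsg.Spor Equiv

attribute [local irreducible] chk

/-- The automorphism is a conjugation. -/
def IsInn (f : Cfsg.Spor.Ly ≃* Cfsg.Spor.Ly) : Prop := ∃ a, f = MulAut.conj a

theorem isInn_of_trans {f : Cfsg.Spor.Ly ≃* Cfsg.Spor.Ly} (a : Cfsg.Spor.Ly)
    (h : IsInn (f.trans (MulAut.conj a))) : IsInn f := by
  obtain ⟨b, hb⟩ := h
  refine ⟨a⁻¹ * b, MulEquiv.ext fun x => ?_⟩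
  have := DFunLike.congr_fun hb x
  simp only [MulEquiv.trans_apply, MulAut.conj_apply] at this
  rw [MulAut.conj_apply]
  calc f x = a⁻¹ * (a * f x * a⁻¹) * a := by group
    _ = _ := by rw [this]; group

theorem fLy_ext {F G : Cfsg.Spor.Ly →* Cfsg.Spor.Ly} (h : ∀ g < 5, F (fLy g) = G (fLy g)) :
    F = G := by
  refine PresentedGroup.ext fun x => ?_
  rw [of_eq_genV, genV, map_prodV, map_prodV]
  refine congrArg List.prod (List.map_congr_left fun k _ => ?_)
  simp only [letV]
  split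
  · exact h _ (by omega)
  · rw [← map_inv, ← map_inv, map_inv, map_inv, h _ (by omega)]

variable [IsSimpleGroup Cfsg.Spor.Ly] [Finite Cfsg.Spor.Ly]
variable (hC : Nat.card (Subgroup.centralizer ({tElt} : Set Cfsg.Spor.Ly)) ≤ 39916800)
include hC

theorem image_mem {f : Cfsg.Spor.Ly ≃* Cfsg.Spor.Ly} (hf : f tElt = tElt) {x : Cfsg.Spor.Ly}
    (hx : x ∈ Dt) : f x ∈ Dt := by
  refine (cent_eq hC).le (Subgroup.mem_centralizer_singleton_iff.2 ?_)
  rw [← hf, ← map_mul, ← map_mul, dt_comm hx]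

/-- An automorphism fixing t, restricted to its centraliser. -/
noncomputable def restrict (f : Cfsg.Spor.Ly ≃* Cfsg.Spor.Ly) (hf : f tElt = tElt) : Dt ≃* Dt where
  toFun x := ⟨f x, image_mem hC hf x.2⟩
  invFun x := ⟨f.symm x, image_mem hC (by rw [MulEquiv.symm_apply_eq, hf]) x.2⟩
  left_inv x := Subtype.ext (f.symm_apply_apply x)
  right_inv x := Subtype.ext (f.apply_symm_apply x)
  map_mul' x y := Subtype.ext (map_mul f _ _)

theorem exists_perm (f : Cfsg.Spor.Ly ≃* Cfsg.Spor.Ly) (hf : f tElt = tElt) :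
    ∃ σ : Perm (Fin 11), ∀ x : Dt, pr (restrict hC f hf x) = σ * pr x * σ⁻¹ := by
  refine exists_sigma (by norm_num) (by norm_num) pr_range pr_ker _ fun x hx => ?_
  show f x = tElt
  rw [hx, hf]

omit hC [Finite Cfsg.Spor.Ly] in
theorem el_cube {g : ℕ} (hg : 10 ≤ g) : el g ^ 3 = 1 := by
  rw [el, if_neg (by omega)]
  exact vElt_cube _

/-- A map given on the lifts by words of cube one is given on all words in lifts. -/
theorem sub_apply {F : Cfsg.Spor.Ly ≃* Cfsg.Spor.Ly} (hF : F tElt = tElt) (S : ℕ → List ℕ)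
    (hS : ∀ g, 10 ≤ g → g < 19 → liftW (S g) = true ∧ evW (S g) ^ 3 = 1 ∧
      pr (restrict hC F hF (dW [g])) = permW (S g)) :
    ∀ {w : List ℕ}, liftW w = true → F (evW w) = evW (w.flatMap S)
  | [], _ => by simp [evW_nil]
  | g :: w, h => by
    simp only [liftW, List.all_cons, Bool.and_eq_true, Nat.ble_eq, Nat.blt_eq] at h
    have hw : liftW w = true := by simpa [liftW, Nat.ble_eq, Nat.blt_eq] using h.2
    obtain ⟨h1, h2, h3⟩ := hS g h.1.1 h.1.2
    have hl : liftW [g] = true := by simp [liftW, Nat.ble_eq, Nat.blt_eq, h.1.1, h.1.2]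
    have e : restrict hC F hF (dW [g]) = dW (S g) := by
      refine dt_eq (h3.trans (pr_dW h1).symm) (k := 3) (by decide) ?_ (by rw [coe_dW h1]; exact h2)
      show F (dW [g] : Cfsg.Spor.Ly) ^ 3 = 1
      rw [← map_pow, coe_dW hl, evW_one, el_cube h.1.1, map_one]
    have e' : F (el g) = evW (S g) := by
      have := congrArg Subtype.val e
      rwa [show ((restrict hC F hF (dW [g]) : Dt) : Cfsg.Spor.Ly) = F (dW [g] : Cfsg.Spor.Ly) from rfl,
        coe_dW hl, coe_dW h1, evW_one] at this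
    rw [evW_cons, map_mul, e', List.flatMap_cons, evW_append, sub_apply hF S hS hw]

/-- The conjugate of the automorphism by g. -/
def twist (F : Cfsg.Spor.Ly ≃* Cfsg.Spor.Ly) : Cfsg.Spor.Ly ≃* Cfsg.Spor.Ly :=
  ((MulAut.conj gE).trans F).trans (MulAut.conj gE⁻¹)

omit hC [IsSimpleGroup Cfsg.Spor.Ly] [Finite Cfsg.Spor.Ly] in
theorem twist_conj (F : Cfsg.Spor.Ly ≃* Cfsg.Spor.Ly) (x : Cfsg.Spor.Ly) :
    twist F (gE⁻¹ * x * gE) = gE⁻¹ * F x * gE := by
  simp [twist, mul_assoc]

omit hC [Finite Cfsg.Spor.Ly] in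
theorem twist_t {F : Cfsg.Spor.Ly ≃* Cfsg.Spor.Ly} (hs : F (evW vS) = evW vS) :
    twist F tElt = tElt := by
  have h : tElt = gE⁻¹ * evW vS * gE := by rw [← g_conj]; group
  rw [h, twist_conj, hs]

omit hC [IsSimpleGroup Cfsg.Spor.Ly] [Finite Cfsg.Spor.Ly] in
theorem perm_tabs : (∀ i, permW eD i = tabF pD i) ∧ (∀ i, permW eDr i = tabF pDr i) ∧
    (∀ i, permW eP i = tabF pP i) ∧ (∀ i, permW eQ i = tabF pQ i) ∧
    (∀ i, permW vSp i = tabF pT i) ∧ (∀ i, tabF pD i ≠ i) ∧ ∃ i, tabF pDr i = i := by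
  decide +kernel

/-- The image of a point under a path in the two permutations. -/
def appP (l : List Bool) (y : Fin 11) : Fin 11 :=
  l.foldr (fun b z => if b then tabF pQ z else tabF pP z) y

/-- The map given by the images of the two roots. -/
def extP (m n i : Fin 11) : Fin 11 :=
  appP (paths.getD i.val (false, [])).2 (if (paths.getD i.val (false, [])).1 then n else m)

omit hC [IsSimpleGroup Cfsg.Spor.Ly] [Finite Cfsg.Spor.Ly] in
theorem ext_cases : (∀ i, extP 0 3 i = i) ∧ ∀ m n : Fin 11, (∀ i, extP m n i = i) ∨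
    (∀ i, extP m n i = tabF pT i) ∨ ∃ i, extP m n (tabF pP i) ≠ tabF pP (extP m n i) ∨
      extP m n (tabF pQ i) ≠ tabF pQ (extP m n i) := by
  decide +kernel

omit hC [IsSimpleGroup Cfsg.Spor.Ly] [Finite Cfsg.Spor.Ly] in
/-- A permutation commuting with both is the identity or the image of the conjugate of t. -/
theorem perm_small (τ : Perm (Fin 11)) (hP : ∀ i, τ (tabF pP i) = tabF pP (τ i))
    (hQ : ∀ i, τ (tabF pQ i) = tabF pQ (τ i)) : τ = 1 ∨ τ = permW vSp := by
  have hcom : ∀ l y, τ (appP l y) = appP l (τ y) := by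
    intro l y
    induction l with
    | nil => rfl
    | cons b l ih =>
      cases b
      · exact (hP _).trans (congrArg (tabF pP) ih)
      · exact (hQ _).trans (congrArg (tabF pQ) ih)
  have hq : ∀ i : Fin 11, τ i = extP (τ 0) (τ 3) i := by
    intro i
    conv_lhs => rw [← ext_cases.1 i, extP, hcom]
    rw [extP]
    split <;> rfl
  rcases ext_cases.2 (τ 0) (τ 3) with h | h | ⟨i, h⟩
  · exact Or.inl (Equiv.ext fun i => by rw [hq, h]; rfl)
  · exact Or.inr (Equiv.ext fun i => by rw [hq, h, perm_tabs.2.2.2.2.1])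
  · simp only [← hq] at h
    exact h.elim (absurd (hP i)) (absurd (hQ i))

/-- A map fixing t and acting on the lifts through the transposition is impossible. -/
theorem not_odd {F : Cfsg.Spor.Ly ≃* Cfsg.Spor.Ly}
    (hR : ∀ {w : List ℕ}, liftW w = true → F (evW w) = evW (rSub w)) : False := by
  have hs : F (evW vS) = evW vS := (hR (by decide +kernel)).trans (evW_eq r_s)
  obtain ⟨σ, hσ⟩ := exists_perm hC _ (twist_t hs)
  have e : restrict hC _ (twist_t hs) (dW eD) = dW eDr := Subtype.ext (by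
    show twist F (dW eD : Cfsg.Spor.Ly) = _
    rw [coe_dW (by decide +kernel), coe_dW (by decide +kernel), ← evW_eq d_conj, ← evW_eq dr_conj,
      evW_cjW, evW_cjW, twist_conj, hR (by decide +kernel)])
  have h := hσ (dW eD)
  rw [e, pr_dW (by decide +kernel), pr_dW (by decide +kernel)] at h
  obtain ⟨hD, hDr, -, -, -, hno, i, hi⟩ := perm_tabs
  have h' := DFunLike.congr_fun h i
  rw [hDr, hi, Perm.mul_apply, Perm.mul_apply, hD] at h'
  exact hno (σ⁻¹ i) (σ.injective (by rw [← h']; simp))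

/-- A map fixing the centraliser of t pointwise is inner. -/
theorem inner_of_fixed {F : Cfsg.Spor.Ly ≃* Cfsg.Spor.Ly}
    (hR : ∀ {w : List ℕ}, liftW w = true → F (evW w) = evW w) : IsInn F := by
  have hs : F (evW vS) = evW vS := hR (by decide +kernel)
  obtain ⟨σ, hσ⟩ := exists_perm hC _ (twist_t hs)
  obtain ⟨-, -, hP, hQ, -, -, -⟩ := perm_tabs
  have fixc : ∀ {w v : List ℕ}, liftW w = true → liftW v = true → chk (cjW w) v = true →
      σ * permW v * σ⁻¹ = permW v := by
    intro w v hw hv hc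
    have e : restrict hC _ (twist_t hs) (dW v) = dW v := Subtype.ext (by
      show twist F (dW v : Cfsg.Spor.Ly) = _
      rw [coe_dW hv, ← evW_eq hc, evW_cjW, twist_conj, hR hw])
    have h := hσ (dW v)
    rw [e, pr_dW hv] at h
    exact h.symm
  have com : ∀ {v : List ℕ} {l : List ℕ}, σ * permW v * σ⁻¹ = permW v →
      (∀ i, permW v i = tabF l i) → ∀ i, σ (tabF l i) = tabF l (σ i) := by
    intro v l h hl i
    rw [← hl, ← hl]
    calc σ (permW v i) = (σ * permW v * σ⁻¹) (σ i) := by simp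
      _ = _ := by rw [h]
  have hsmall := perm_small σ
    (com (fixc (by decide +kernel) (by decide +kernel) p_conj) hP)
    (com (fixc (by decide +kernel) (by decide +kernel) q_conj) hQ)
  have hc5 : evW vC ^ 5 = 1 := by
    rw [show evW vC ^ 5 = evW (vC ++ vC ++ vC ++ vC ++ vC) by
      simp only [evW_append, pow_succ, pow_zero, one_mul], evW_eq c_five, evW_nil]
  have hl : liftW vC = true := by decide +kernel
  have hc : evW vC = gE⁻¹ * el 2 * gE := by rw [← evW_eq c_chk, evW_cjW, evW_one]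
  have hcube : twist F (evW vC) ^ 5 = 1 := by rw [← map_pow, hc5, map_one]
  obtain ⟨τ, hτt, hτ⟩ : ∃ τ : Dt,
      ((τ : Cfsg.Spor.Ly) = 1 ∨ (τ : Cfsg.Spor.Ly) = gE⁻¹ * tElt * gE) ∧ pr τ = σ := by
    rcases hsmall with e | e
    · exact ⟨1, Or.inl rfl, by rw [e, map_one]⟩
    · refine ⟨dW vSp, Or.inr ?_, by rw [e, pr_dW (by decide +kernel)]⟩
      rw [coe_dW (by decide +kernel), ← evW_eq sp_chk, evW_cjW, evW_tWord]
  have e : restrict hC _ (twist_t hs) (dW vC) = τ * dW vC * τ⁻¹ := by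
    refine dt_eq (by rw [hσ, map_mul, map_mul, map_inv, hτ]) (k := 5) (by decide) ?_ ?_
    · show twist F (dW vC : Cfsg.Spor.Ly) ^ 5 = 1
      rw [coe_dW hl, hcube]
    · rw [Subgroup.coe_mul, Subgroup.coe_mul, Subgroup.coe_inv, conj_pow, coe_dW hl, hc5]
      simp
  have e' : gE⁻¹ * F (el 2) * gE =
      (τ : Cfsg.Spor.Ly) * (gE⁻¹ * el 2 * gE) * (τ : Cfsg.Spor.Ly)⁻¹ := by
    have h := congrArg Subtype.val e
    change twist F (dW vC : Cfsg.Spor.Ly) = _ at h
    rwa [Subgroup.coe_mul, Subgroup.coe_mul, Subgroup.coe_inv, coe_dW hl, hc, twist_conj] at h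
  obtain ⟨k, hk, hk2⟩ : ∃ k : Cfsg.Spor.Ly, (∀ x ∈ Dt, k * x = x * k) ∧
      F (el 2) = k * el 2 * k⁻¹ := by
    refine ⟨gE * τ * gE⁻¹, ?_, ?_⟩
    · rcases hτt with h | h <;> rw [h]
      · intro x _
        simp
      · intro x hx
        rw [show gE * (gE⁻¹ * tElt * gE) * gE⁻¹ = tElt by group]
        exact dt_comm hx
    · calc F (el 2) = gE * (gE⁻¹ * F (el 2) * gE) * gE⁻¹ := by group
        _ = _ := by rw [e']; group
  have hD : ∀ {g : ℕ} {v : List ℕ}, chk [g] v = true → liftW v = true →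
      F (el g) = k * el g * k⁻¹ := by
    intro g v hv hlv
    rw [← evW_one g, evW_eq hv, hR hlv, hk _ (evW_mem hlv), mul_inv_cancel_right]
  refine ⟨k, MulEquiv.ext fun x => DFunLike.congr_fun
    (fLy_ext (F := F.toMonoidHom) (G := (MulAut.conj k).toMonoidHom) fun g hg => ?_) x⟩
  have hfe : fLy g = el g := by simp [el, letV, show g < 10 by omega, Nat.mod_eq_of_lt (show g < 10 by omega), hg]
  show F (fLy g) = k * fLy g * k⁻¹
  rw [hfe]
  interval_cases g
  exacts [hD a_chk (by decide +kernel), hD b_chk (by decide +kernel), hk2,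
    hD d_chk (by decide +kernel), hD z_chk (by decide +kernel)]

theorem eq_conj (hG : Nat.card Cfsg.Spor.Ly = 51765179004000000)
    (f : Cfsg.Spor.Ly ≃* Cfsg.Spor.Ly) : IsInn f := by
  obtain ⟨a, ha⟩ := conj_t hC hG (u := f tElt) (by rw [← map_mul, tElt_sq, map_one])
    (by rw [ne_eq, EmbeddingLike.map_eq_one_iff]; exact tElt_ne)
  refine isInn_of_trans a⁻¹ ?_
  set f1 := f.trans (MulAut.conj a⁻¹) with hf1
  have h1 : f1 tElt = tElt := by
    rw [hf1, MulEquiv.trans_apply, ha, MulAut.conj_apply, inv_inv]; group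
  obtain ⟨b, hb⟩ := invol_class
    (x := ⟨f1 (evW vS), image_mem hC h1 (evW_mem (by decide +kernel))⟩)
    (by show f1 _ * f1 _ = 1; rw [← map_mul, s_invol, map_one])
    (fun e => s_ne.2 (f1.injective (e.trans (map_one f1).symm)))
    (fun e => s_ne.1 (f1.injective (e.trans h1.symm)))
  refine isInn_of_trans (b : Cfsg.Spor.Ly)⁻¹ ?_
  set f2 := f1.trans (MulAut.conj (b : Cfsg.Spor.Ly)⁻¹) with hf2
  have hfix : ∀ (c : Dt) (F : Cfsg.Spor.Ly ≃* Cfsg.Spor.Ly), F tElt = tElt →
      (F.trans (MulAut.conj (c : Cfsg.Spor.Ly)⁻¹)) tElt = tElt := by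
    intro c F hF
    rw [MulEquiv.trans_apply, hF, MulAut.conj_apply, inv_inv, mul_assoc, t_comm, inv_mul_cancel_left]
  have h2 : f2 tElt = tElt := hfix b f1 h1
  obtain ⟨σ, hσ⟩ := exists_perm hC f2 h2
  set r : Perm (Fin 11) := if Perm.sign σ = 1 then 1 else swap 1 4 with hr
  have heven : σ * r ∈ alternatingGroup (Fin 11) := by
    rw [Perm.mem_alternatingGroup, map_mul, hr]
    rcases Int.units_eq_one_or (Perm.sign σ) with h | h
    · rw [if_pos h, h, map_one, one_mul]
    · rw [if_neg (by rw [h]; decide), h, Perm.sign_swap (by decide)]; rfl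
  obtain ⟨c, hc⟩ : σ * r ∈ (pr : Dt →* Perm (Fin 11)).range := pr_range.symm ▸ heven
  refine isInn_of_trans (c : Cfsg.Spor.Ly)⁻¹ ?_
  set f3 := f2.trans (MulAut.conj (c : Cfsg.Spor.Ly)⁻¹) with hf3
  have h3 : f3 tElt = tElt := hfix c f2 h2
  have hr2 : r⁻¹ = r := by rw [hr]; split_ifs <;> simp
  have hp : ∀ g, 10 ≤ g → g < 19 → pr (restrict hC f3 h3 (dW [g])) = r * permW [g] * r := by
    intro g hg hg'
    have hl : liftW [g] = true := by simp [liftW, Nat.ble_eq, Nat.blt_eq, hg, hg']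
    have e : restrict hC f3 h3 (dW [g]) = c⁻¹ * restrict hC f2 h2 (dW [g]) * c := Subtype.ext (by
      show f3 (dW [g] : Cfsg.Spor.Ly) = (c : Cfsg.Spor.Ly)⁻¹ * f2 (dW [g] : Cfsg.Spor.Ly) * c
      rw [hf3, MulEquiv.trans_apply, MulAut.conj_apply, inv_inv])
    rw [e, map_mul, map_mul, map_inv, hσ, hc, pr_dW hl, mul_inv_rev, hr2]
    group
  by_cases hs : Perm.sign σ = 1
  · refine inner_of_fixed hC fun {w} hw => ?_
    rw [sub_apply hC h3 (fun g => [g]) (fun g hg hg' => ?_) hw, List.flatMap_singleton']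
    refine ⟨by simp [liftW, Nat.ble_eq, Nat.blt_eq, hg, hg'], by rw [evW_one, el_cube hg], ?_⟩
    rw [hp g hg hg', hr, if_pos hs, one_mul, mul_one]
  · refine (not_odd hC (F := f3) fun {w} hw => sub_apply hC h3 (fun g => rImg.getD (g - 10) [])
      (fun g hg hg' => ?_) hw).elim
    rw [hp g hg hg', hr, if_neg hs]
    refine ⟨?_, ?_, ?_⟩
    · have key : ∀ g < 19, 10 ≤ g → liftW (rImg.getD (g - 10) []) = true := by decide +kernel
      exact key g hg' hg
    · have := List.all_eq_true.1 r_cube (g - 10) (List.mem_range.2 (by omega))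
      rw [← evW_nil, ← evW_eq this]
      simp [evW_append, pow_succ, mul_assoc]
    · have key : ∀ g < 19, 10 ≤ g → ∀ i : Fin 11,
        (Equiv.swap (1 : Fin 11) 4 * permW [g] * Equiv.swap (1 : Fin 11) 4 : Perm (Fin 11)) i =
          permW (rImg.getD (g - 10) []) i := by decide +kernel
      exact Equiv.ext (key g hg' hg)

/-- The outer automorphism group is trivial. -/
theorem card_out (hG : Nat.card Cfsg.Spor.Ly = 51765179004000000) :
    Nat.card (Cfsg.Out Cfsg.Spor.Ly) = 1 := by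
  rw [Nat.card_eq_one_iff_unique]
  refine ⟨⟨fun x y => ?_⟩, ⟨1⟩⟩
  obtain ⟨f, rfl⟩ := QuotientGroup.mk_surjective x
  obtain ⟨f', rfl⟩ := QuotientGroup.mk_surjective y
  rw [QuotientGroup.eq]
  obtain ⟨g, hg⟩ := eq_conj hC hG (f⁻¹ * f')
  exact ⟨g, hg.symm⟩

end CfsgLib.LyOut
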