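import Cfsg.Agent.Lib.LyOut.Words

/-! Checks in degree 111. -/

set_option autoImplicit false
set_option maxRecDepth 200000
set_option Elab.async false

namespace CfsgLib.LyOut

open CfsgLib.LyGTwo CfsgLib.LyInvol

theorem a_chk : chk [0] vA = true := by decide +kernel

theorem b_chk : chk [1] vB = true := by decide +kernel

theorem d_chk : chk [3] vD = true := by decide +kernel

theorem z_chk : chk [4] vZ = true := by decide +kernel

theorem s_sq : chk (vS ++ vS) [] = true := by decide +kernel

theorem g_chk : chk (gW ++ tWord ++ invW gW) vS = true := by decide +kernel

theorem sp_chk : chk (cjW tWord) vSp = true := by decide +kernel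

theorem c_chk : chk (cjW [2]) vC = true := by decide +kernel

theorem c_five : chk (vC ++ vC ++ vC ++ vC ++ vC) [] = true := by decide +kernel

theorem h_chk : chk (vH ++ vS ++ vHi) (tWord ++ vS) = true := by decide +kernel

theorem h_inv : chk (vH ++ vHi) [] = true := by decide +kernel

theorem l_chk : chk (vL ++ vL) tWord = true := by decide +kernel

end CfsgLib.LyOut
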