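import Cfsg.Agent.Lib.LyOut.Words

/-! Checks in degree 111. -/

set_option autoImplicit false
set_option maxRecDepth 200000
set_option Elab.async false

namespace CfsgLib.LyOut

open CfsgLib.LyGTwo CfsgLib.LyInvol

theorem r_s : chk (rSub vS) vS = true := by decide +kernel

theorem r_cube : ((List.range 9).all fun i =>
    chk (rImg.getD i [] ++ rImg.getD i [] ++ rImg.getD i []) []) = true := by decide +kernel

theorem d_conj : chk (cjW wD) eD = true := by decide +kernel

theorem dr_conj : chk (cjW (rSub wD)) eDr = true := by decide +kernel

theorem p_conj : chk (cjW wP) eP = true := by decide +kernel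

theorem q_conj : chk (cjW wQ) eQ = true := by decide +kernel

end CfsgLib.LyOut
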