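import Mathlib.Init
import Mathlib.Data.Nat.Notation

/-!
Words in the five letters (0 to 9) and in the nine lifted three-cycles (10 to 18), found offline.
-/

set_option autoImplicit false

namespace CfsgLib.LyOut

/-- A word conjugating the involution t to s. -/
def gW : List ℕ := [3, 7, 3, 7, 0, 7, 6, 7, 3, 1, 1, 2]

/-- The involution s in letters. -/
def sLet : List ℕ := [0, 0, 1, 0, 1, 0, 1, 1, 0, 1, 1, 0]

/-- The element a in lifted three-cycles. -/
def vA : List ℕ := [13, 13, 17, 15, 15, 14, 13, 13, 10, 10, 11, 10, 10, 10, 11, 10, 11]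

/-- The element b in lifted three-cycles. -/
def vB : List ℕ := [12, 12, 16, 10, 10, 12, 11, 10, 10, 10, 11, 10, 11]

/-- The element d in lifted three-cycles. -/
def vD : List ℕ := [18, 18, 13, 13, 15, 13, 13]

/-- The element z in lifted three-cycles. -/
def vZ : List ℕ := [13, 13, 17, 15, 15, 14, 13, 13, 12]

/-- The element s in lifted three-cycles. -/
def vS : List ℕ := [14, 14, 17, 10, 10, 16, 13, 13, 15, 10, 10, 14, 10, 10, 13, 11, 10]

/-- The element the conjugate of t by the inverse of g in lifted three-cycles. -/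
def vSp : List ℕ := [13, 13, 17, 16, 13, 13, 15, 13, 10, 10, 12, 10, 10, 10, 11, 10, 11]

/-- The element the conjugate of c by g in lifted three-cycles. -/
def vC : List ℕ := [12, 12, 16, 10, 10, 12, 10, 10, 11, 10]

/-- A lift of a product of two transpositions. -/
def vL : List ℕ := [10, 10, 11, 10, 10]

/-- An element sending s to ts. -/
def vH : List ℕ := [12, 12, 11, 11]

/-- The inverse of that element. -/
def vHi : List ℕ := [11, 11, 11, 11, 12, 12, 12, 12]

/-- An element of the centraliser of t and s. -/
def wD : List ℕ := [18, 18, 12, 15, 15, 16, 11, 11, 15, 13, 10, 10]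

/-- Its conjugate by g. -/
def eD : List ℕ := [14, 14, 18, 16, 16, 17, 10, 10, 16, 14, 14, 15, 11, 11, 14, 13, 10, 10, 12, 11, 10, 11, 10, 11]

/-- The conjugate by g of its image under the odd map. -/
def eDr : List ℕ := [16, 16, 17, 10, 10, 16, 15, 15, 13, 13, 10, 10, 12, 10]

/-- A second element of the centraliser of t and s. -/
def wP : List ℕ := [15, 15, 16, 11, 11, 15, 13, 10, 10]

/-- A third element of the centraliser of t and s. -/
def wQ : List ℕ := [16, 12, 11, 10, 10]

/-- Its conjugate by g. -/
def eP : List ℕ := [11, 11, 18, 17, 12, 12, 16, 14, 13, 12, 12, 11, 11, 10, 10, 10, 11, 10, 11]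

/-- Its conjugate by g. -/
def eQ : List ℕ := [11, 11, 18, 10, 10, 17, 16, 16, 15, 15, 12, 12, 13, 11, 11, 12, 10, 10, 11, 10, 10, 11, 10, 11]

/-- The permutation of a conjugate. -/
def pD : List ℕ := [4, 7, 5, 10, 9, 0, 3, 1, 2, 8, 6]

/-- The permutation of a conjugate. -/
def pDr : List ℕ := [4, 7, 5, 3, 9, 0, 6, 1, 2, 8, 10]

/-- The permutation of a conjugate. -/
def pP : List ℕ := [2, 1, 9, 6, 5, 8, 10, 7, 4, 0, 3]

/-- The permutation of a conjugate. -/
def pQ : List ℕ := [5, 8, 7, 10, 1, 4, 6, 0, 9, 2, 3]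

/-- The permutation of the conjugate of t. -/
def pT : List ℕ := [8, 7, 4, 3, 2, 9, 6, 1, 0, 5, 10]

/-- The permutation of s. -/
def pS : List ℕ := [3, 1, 8, 0, 4, 7, 9, 5, 2, 6, 10]

/-- The images of the lifts under the odd map. -/
def rImg : List (List ℕ) := [
  [10, 10, 12, 10],
  [11, 11, 12, 11],
  [12, 12],
  [13, 12, 12, 10, 11, 10, 11],
  [14, 12, 12, 10, 11, 10, 11],
  [15, 12, 12, 10, 11, 10, 11],
  [16, 12, 12, 10, 11, 10, 11],
  [17, 12, 12, 10, 11, 10, 11],
  [18, 12, 12, 10, 11, 10, 11]]

/-- Each point is the image of one of two roots under a word in two permutations. -/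
def paths : List (Bool × List Bool) := [
  (false, []),
  (false, [true, true, true]),
  (false, [false]),
  (true, []),
  (false, [true, true]),
  (false, [true]),
  (true, [false]),
  (false, [true, false]),
  (false, [false, true]),
  (false, [false, false]),
  (true, [true])]

end CfsgLib.LyOut
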