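import Cfsg.Agent.Lib.LyInvol.Rep
import Cfsg.Agent.Lib.LyOut.Data

/-!
# Mixed words in the letters and the lifted three-cycles of the presented Lyons group
-/

set_option autoImplicit false
set_option maxRecDepth 100000

namespace CfsgLib.LyOut

open CfsgLib.LyGTwo CfsgLib.LyInvol Cfsg.Spor

/-- The value of a mixed letter. -/
def el (g : ℕ) : Cfsg.Spor.Ly :=
  if g < 10 then letV fLy g else vElt ⟨(g - 10) % 9, Nat.mod_lt _ (by norm_num)⟩

/-- The value of a mixed word. -/
def evW (w : List ℕ) : Cfsg.Spor.Ly := (w.map el).prod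

theorem evW_nil : evW [] = 1 := rfl

theorem evW_cons (g : ℕ) (w : List ℕ) : evW (g :: w) = el g * evW w := by simp [evW]

theorem evW_append (u w : List ℕ) : evW (u ++ w) = evW u * evW w := by simp [evW, List.prod_append]

theorem evW_one (g : ℕ) : evW [g] = el g := by simp [evW]

theorem evW_letters : ∀ {w : List ℕ}, (∀ g ∈ w, g < 10) → evW w = prodV fLy w
  | [], _ => rfl
  | g :: w, h => by
    rw [evW_cons, prodV_cons, el, if_pos (h g List.mem_cons_self),
      evW_letters fun x hx => h x (List.mem_cons_of_mem _ hx)]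

theorem evW_tWord : evW tWord = tElt := evW_letters (by simp [tWord])

theorem el_lift (i : Fin 9) : el (10 + i.val) = vElt i := by
  rw [el, if_neg (by omega)]
  congr 1
  exact Fin.ext (by simp [Nat.mod_eq_of_lt i.isLt])

theorem repM_el {g : ℕ} (hg : g < 19) : repM (el g) = SF.genMat 111 (withV.getD g []) := by
  rcases lt_or_ge g 10 with h | h
  · rw [el, if_pos h, show letV fLy g = prodV fLy [g] by simp [prodV],
      repM_word (by simp [h]), ← wordMat_left (E := matVs.map matD) (by simp [h]),
      wordMat_cons, LyInvol.wordMat_nil, mul_one]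
    rfl
  · obtain ⟨i, rfl⟩ : ∃ i : Fin 9, g = 10 + i.val := ⟨⟨g - 10, by omega⟩, by simp; omega⟩
    rw [el_lift, repM_vElt]

theorem repM_evW : ∀ {w : List ℕ}, (∀ g ∈ w, g < 19) → repM (evW w) = SF.wordMat 111 withV w
  | [], _ => by rw [evW_nil, repM_one, LyInvol.wordMat_nil]
  | g :: w, h => by
    rw [evW_cons, repM_mul, wordMat_cons, repM_el (h g List.mem_cons_self),
      repM_evW fun x hx => h x (List.mem_cons_of_mem _ hx)]

/-- The two words have the same matrix. -/
noncomputable def chk (u v : List ℕ) : Bool :=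
  (u ++ v).all (fun g => Nat.blt g 19) && SF.sameW 111 withV withV u v

theorem evW_eq [IsSimpleGroup Cfsg.Spor.Ly] {u v : List ℕ} (h : chk u v = true) : evW u = evW v := by
  simp only [chk, Bool.and_eq_true, List.all_eq_true, List.mem_append, Nat.blt_eq] at h
  obtain ⟨-, hV, -⟩ := ok_chk
  refine repM_inj ?_
  rw [repM_evW fun g hg => h.1 g (Or.inl hg), repM_evW fun g hg => h.1 g (Or.inr hg)]
  exact SF.sameW_sound hV hV LyInvol.idEq h.2

/-- The image of a word in lifts under the odd map. -/
def rSub (w : List ℕ) : List ℕ := w.flatMap fun g => rImg.getD (g - 10) []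

/-- Conjugation by g. -/
def cjW (w : List ℕ) : List ℕ := invW gW ++ w ++ gW

/-- The element g. -/
def gE : Cfsg.Spor.Ly := evW gW

theorem evW_invg : evW (invW gW) = gE⁻¹ := by
  rw [gE, evW_letters (invW_lt _), evW_letters (by decide), prodV_invW]

theorem evW_cjW (w : List ℕ) : evW (cjW w) = gE⁻¹ * evW w * gE := by
  rw [cjW, evW_append, evW_append, evW_invg, gE]

end CfsgLib.LyOut
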